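import Groth.Agent.MLMod.NilInjective
import Groth.Agent.GorLib.FlatFibre

/-!
# Lifting resolutions of flat modules along square-zero ideals
-/

set_option autoImplicit false
universe u

open TensorProduct

namespace Groth.Agent.KoszulLift

section

variable {R : Type u} [CommRing R]

/-- A flat cokernel keeps a kernel-image identity after tensoring. -/
theorem exact_lTensor_of_flat_coker {P Q S : Type u} [AddCommGroup P] [Module R P] [AddCommGroup Q] [Module R Q]
    [AddCommGroup S] [Module R S] (a : P →ₗ[R] Q) (b : Q →ₗ[R] S) (h : Function.Exact a b)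
    [Module.Flat R (S ⧸ LinearMap.range b)] (N : Type u) [AddCommGroup N] [Module R N] :
    Function.Exact (a.lTensor N) (b.lTensor N) := by
  have hsurj : Function.Surjective b.rangeRestrict := LinearMap.surjective_rangeRestrict b
  have hinj : Function.Injective ((LinearMap.range b).subtype.lTensor N) :=
    LinearMap.lTensor_injective_of_exact_of_flat (LinearMap.range b).mkQ (Submodule.mkQ_surjective _)
      (LinearMap.range b).subtype (Submodule.injective_subtype _) (LinearMap.exact_subtype_mkQ _) N
  have hex : Function.Exact a b.rangeRestrict := fun y => by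
    rw [← h y]
    exact Subtype.ext_iff
  intro y
  rw [← lTensor_exact N hex hsurj y]
  constructor
  · intro hy
    refine hinj ?_
    rw [map_zero, ← LinearMap.lTensor_comp_apply]
    exact hy
  · intro hy
    rw [show b = (LinearMap.range b).subtype ∘ₗ b.rangeRestrict from rfl, LinearMap.lTensor_comp_apply, hy, map_zero]

end

variable {A : Type u} [CommRing A] (J : Ideal A) (X : ℕ → Type u) [∀ n, AddCommGroup (X n)] [∀ n, Module A (X n)]
  (d : ∀ n, X (n + 1) →ₗ[A] X n)

/-- A linear map mapping to zero in `(A ⧸ J) ⊗ M` lands in `J M`. -/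
theorem one_tmul_eq_zero_iff {M : Type u} [AddCommGroup M] [Module A M] (x : M) :
    (1 : A ⧸ J) ⊗ₜ[A] x = 0 ↔ x ∈ (J • ⊤ : Submodule A M) := by
  rw [← (quotTensorEquivQuotSMul M J).map_eq_zero_iff,
    show (1 : A ⧸ J) = Ideal.Quotient.mk J 1 from rfl, quotTensorEquivQuotSMul_mk_tmul, one_smul,
    Submodule.Quotient.mk_eq_zero]

theorem one_tmul_surjective {M : Type u} [AddCommGroup M] [Module A M] :
    Function.Surjective (TensorProduct.mk A (A ⧸ J) M 1) :=
  TensorProduct.mk_surjective A M (A ⧸ J) Ideal.Quotient.mk_surjective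

variable (hd : ∀ n x, d n (d (n + 1) x) = 0)
  (hex : ∀ n (x : X (n + 1)), d n x ∈ (J • ⊤ : Submodule A (X n)) →
    ∃ w, x - d (n + 1) w ∈ (J • ⊤ : Submodule A (X (n + 1))))
  [∀ n, Module.Flat A (X n)]

omit [∀ n, Module.Flat A (X n)] in
include hd hex in
theorem exact_baseChange (n : ℕ) :
    Function.Exact ((d (n + 1)).baseChange (A ⧸ J)) ((d n).baseChange (A ⧸ J)) := by
  intro y
  obtain ⟨y, rfl⟩ := one_tmul_surjective J y
  rw [TensorProduct.mk_apply, LinearMap.baseChange_tmul, one_tmul_eq_zero_iff]
  constructor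
  · intro hy
    obtain ⟨w, hw⟩ := hex n y hy
    refine ⟨(1 : A ⧸ J) ⊗ₜ[A] w, ?_⟩
    rw [LinearMap.baseChange_tmul, eq_comm, ← sub_eq_zero, ← tmul_sub, one_tmul_eq_zero_iff]
    exact hw
  · rintro ⟨z, hz⟩
    obtain ⟨z, rfl⟩ := one_tmul_surjective J z
    rw [TensorProduct.mk_apply, LinearMap.baseChange_tmul, ← sub_eq_zero, ← tmul_sub, one_tmul_eq_zero_iff] at hz
    have h1 := Submodule.smul_top_le_comap_smul_top J (d n) hz
    rw [Submodule.mem_comap, map_sub, hd, zero_sub] at h1
    simpa using h1

variable (hflat : Module.Flat (A ⧸ J) ((A ⧸ J) ⊗[A] (X 0 ⧸ LinearMap.range (d 0))))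

include hd hex hflat in
theorem flat_coker (n : ℕ) :
    Module.Flat (A ⧸ J) (((A ⧸ J) ⊗[A] X n) ⧸ LinearMap.range ((d n).baseChange (A ⧸ J))) := by
  induction n with
  | zero =>
    let g := (LinearMap.range (d 0)).mkQ.baseChange (A ⧸ J)
    have hg : Function.Surjective g := LinearMap.lTensor_surjective _ (Submodule.mkQ_surjective _)
    have hker : LinearMap.ker g = LinearMap.range ((d 0).baseChange (A ⧸ J)) := by
      ext y
      exact lTensor_exact (A ⧸ J) (LinearMap.exact_map_mkQ_range (d 0)) (Submodule.mkQ_surjective _) y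
    exact Module.Flat.of_linearEquiv
      ((Submodule.quotEquivOfEq _ _ hker.symm).trans (g.quotKerEquivOfSurjective hg))
  | succ n ih =>
    set b := (d n).baseChange (A ⧸ J)
    have hr : Module.Flat (A ⧸ J) (LinearMap.range b) :=
      GorLib.flat_of_exact (A := A ⧸ J) (M := LinearMap.range b) (N := (A ⧸ J) ⊗[A] X n)
        (Q := ((A ⧸ J) ⊗[A] X n) ⧸ LinearMap.range b) (LinearMap.range b).subtype (Submodule.injective_subtype _) (LinearMap.range b).mkQ
        (Submodule.mkQ_surjective _) (LinearMap.exact_subtype_mkQ _)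
    exact Module.Flat.of_linearEquiv
      ((Submodule.quotEquivOfEq _ _ (LinearMap.exact_iff.1 (exact_baseChange J X d hd hex n)).symm).trans
        b.quotKerEquivRange)

include hd hex hflat in
theorem exact_lTensor_killed (n : ℕ) (N : Type u) [AddCommGroup N] [Module A N]
    (hN : Module.IsTorsionBySet A N (J : Set A)) :
    Function.Exact ((d (n + 1)).lTensor N) ((d n).lTensor N) := by
  let := hN.module
  have : IsScalarTower A (A ⧸ J) N := hN.isScalarTower
  have := flat_coker J X d hd hex hflat n
  have h := exact_lTensor_of_flat_coker ((d (n + 1)).baseChange (A ⧸ J)) ((d n).baseChange (A ⧸ J))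
    (exact_baseChange J X d hd hex n) N
  let e := fun m => AlgebraTensorModule.cancelBaseChange A (A ⧸ J) (A ⧸ J) N (X m)
  have hnat : ∀ m z, (d m).lTensor N (e (m + 1) z) = e m (((d m).baseChange (A ⧸ J)).lTensor N z) := by
    intro m z
    induction z using TensorProduct.induction_on with
    | zero => simp
    | add x y hx hy => simp only [map_add, hx, hy]
    | tmul a t =>
      induction t using TensorProduct.induction_on with
      | zero => simp
      | add x y hx hy => simp only [tmul_add, map_add, hx, hy]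
      | tmul r x => simp [e]
  intro y
  obtain ⟨z, rfl⟩ := (e (n + 1)).surjective y
  rw [hnat, LinearEquiv.map_eq_zero_iff]
  constructor
  · intro hz
    obtain ⟨w, rfl⟩ := (h z).1 hz
    exact ⟨e (n + 2) w, hnat _ w⟩
  · rintro ⟨w, hw⟩
    obtain ⟨w, rfl⟩ := (e (n + 2)).surjective w
    rw [hnat] at hw
    rw [← (e (n + 1)).injective hw]
    exact h.apply_apply_eq_zero w

/-- Multiplication `J ⊗ M → M`. -/
noncomputable def mul (M : Type u) [AddCommGroup M] [Module A M] : J ⊗[A] M →ₗ[A] M :=
  (TensorProduct.lid A M).toLinearMap ∘ₗ J.subtype.rTensor M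

theorem mul_natural {M M' : Type u} [AddCommGroup M] [Module A M] [AddCommGroup M'] [Module A M']
    (f : M →ₗ[A] M') (z : J ⊗[A] M) : f (mul J M z) = mul J M' (f.lTensor J z) := by
  induction z using TensorProduct.induction_on with
  | zero => simp
  | add x y hx hy => simp only [map_add, hx, hy]
  | tmul a x => simp [mul]

theorem mul_injective (M : Type u) [AddCommGroup M] [Module A M] [Module.Flat A M] :
    Function.Injective (mul J M) :=
  (TensorProduct.lid A M).injective.comp
    (Module.Flat.rTensor_preserves_injective_linearMap J.subtype Subtype.val_injective)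

theorem exists_mul_eq {M : Type u} [AddCommGroup M] [Module A M] {x : M} (hx : x ∈ (J • ⊤ : Submodule A M)) :
    ∃ z, mul J M z = x := by
  refine Submodule.smul_induction_on hx (fun a ha m _ => ⟨(⟨a, ha⟩ : J) ⊗ₜ m, by simp [mul]⟩) ?_
  rintro a b ⟨z, rfl⟩ ⟨w, rfl⟩
  exact ⟨z + w, map_add _ _ _⟩

theorem mul_mem {M : Type u} [AddCommGroup M] [Module A M] (z : J ⊗[A] M) :
    mul J M z ∈ (J • ⊤ : Submodule A M) := by
  induction z using TensorProduct.induction_on with
  | zero => simp
  | add x y hx hy => rw [map_add]; exact add_mem hx hy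
  | tmul a x => simpa [mul] using Submodule.smul_mem_smul a.2 (Submodule.mem_top (x := x))

variable (hJ : J * J = ⊥)

include hd hex hflat hJ in
theorem exact_of_mod (n : ℕ) : Function.Exact (d (n + 1)) (d n) := by
  intro x
  constructor
  · intro hx
    obtain ⟨w, hw⟩ := hex n x (hx ▸ zero_mem _)
    obtain ⟨t, ht⟩ := exists_mul_eq J hw
    have h0 : (d n).lTensor J t = 0 := by
      refine mul_injective J (X n) ?_
      rw [map_zero, ← mul_natural, ht, map_sub, hx, hd, sub_zero]
    have htors : Module.IsTorsionBySet A J (J : Set A) := fun a b => Subtype.ext (by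
      have : (b : A) * a.1 ∈ J * J := Ideal.mul_mem_mul b.2 a.2
      rw [hJ, Ideal.mem_bot] at this
      simpa using this)
    obtain ⟨s, rfl⟩ := (exact_lTensor_killed J X d hd hex hflat n J htors t).1 h0
    refine ⟨w + mul J _ s, ?_⟩
    rw [map_add, mul_natural, ht]
    abel
  · rintro ⟨w, rfl⟩
    exact hd n w

include hd hex hflat hJ in
theorem flat_of_mod : Module.Flat A (X 0 ⧸ LinearMap.range (d 0)) := by
  have hnil : IsNilpotent J := ⟨2, by rw [pow_two, hJ]; rfl⟩
  refine Groth.MLMod.flat_of_torZero_nilpotent J hnil ((injective_iff_map_eq_zero _).2 fun z hz => ?_)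
  set q := (LinearMap.range (d 0)).mkQ
  obtain ⟨t, rfl⟩ := LinearMap.lTensor_surjective J (Submodule.mkQ_surjective (LinearMap.range (d 0))) z
  have h1 : q (mul J (X 0) t) = 0 := by
    rw [mul_natural]
    simp [mul, hz, q]
  obtain ⟨y, hy⟩ := (Submodule.Quotient.mk_eq_zero _).1 h1
  obtain ⟨w, hw⟩ := hex 0 y (hy ▸ mul_mem J t)
  obtain ⟨s, hs⟩ := exists_mul_eq J hw
  have h2 : t = (d 0).lTensor J s := by
    refine mul_injective J (X 0) ?_
    rw [← mul_natural, hs, map_sub, hd, sub_zero, hy]
  rw [h2]
  exact (lTensor_exact J (LinearMap.exact_map_mkQ_range (d 0)) (Submodule.mkQ_surjective _)).apply_apply_eq_zero s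

end Groth.Agent.KoszulLift
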