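import Groth.Agent.KoszulLift.Abstract
import Groth.Agent.KoszulLib.Cone

/-!
# Koszul regular sequences lift along square-zero ideals
-/

set_option autoImplicit false
universe u

open TensorProduct

namespace Groth.Agent.KoszulLift

open KoszulLib

variable {A B : Type u} [CommRing A] [CommRing B] [Algebra A B]

theorem mem_smul_iff_one_tmul {M : Type u} [AddCommGroup M] [Module A M] [Module B M] [IsScalarTower A B M]
    (J : Ideal A) (x : M) :
    x ∈ (J • ⊤ : Submodule A M) ↔ (1 : B ⧸ J.map (algebraMap A B)) ⊗ₜ[B] x = 0 := by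
  rw [one_tmul_eq_zero_iff (A := B), ← Submodule.restrictScalars_mem A (J.map (algebraMap A B) • ⊤ : Submodule B M),
    Ideal.smul_restrictScalars, Submodule.restrictScalars_top]

theorem square_zero [Module.Flat A B] (J : Ideal A) (hJ : J * J = ⊥) (rs : List B)
    (hreg : LCI.IsKoszulRegularSeq (B ⧸ Ideal.map (algebraMap A B) J)
      (rs.map (Ideal.Quotient.mk (Ideal.map (algebraMap A B) J))))
    (hflat : Module.Flat (A ⧸ J) ((B ⧸ Ideal.map (algebraMap A B) J) ⧸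
      Ideal.ofList (rs.map (Ideal.Quotient.mk (Ideal.map (algebraMap A B) J))))) :
    LCI.IsKoszulRegularSeq B rs ∧ Module.Flat A (B ⧸ Ideal.ofList rs) := by
  let JB := Ideal.map (algebraMap A B) J
  let modA : ∀ i, Module A (X rs i) := fun i => Module.compHom (X rs i) (algebraMap A B)
  have : ∀ i, IsScalarTower A B (X rs i) := fun i => ⟨fun a b x => by
    show (a • b) • x = algebraMap A B a • b • x
    rw [Algebra.smul_def, mul_smul]⟩
  let d : ∀ n : ℕ, X rs (-((n + 1 : ℕ) : ℤ)) →ₗ[A] X rs (-(n : ℤ)) := fun n => (dL rs _ _).restrictScalars A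
  have : ∀ n : ℕ, Module.Flat A (X rs (-(n : ℤ))) := fun n => by
    have := free rs (-(n : ℤ))
    exact Module.Flat.trans A B _
  have hd : ∀ n x, d n (d (n + 1) x) = 0 := fun n x => dL_dL rs _ _ _ x
  obtain ⟨θ, hθ⟩ := exists_baseChange (S := B ⧸ JB) rs
  have hEx : Ex (rs.map (algebraMap B (B ⧸ JB))) := (ex_iff _).2 hreg
  have hex : ∀ n (x : X rs (-((n + 1 : ℕ) : ℤ))),
      d n x ∈ (J • ⊤ : Submodule A (X rs (-(n : ℤ)))) →
      ∃ w, x - d (n + 1) w ∈ (J • ⊤ : Submodule A (X rs (-((n + 1 : ℕ) : ℤ)))) := by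
    intro n x hx
    rw [mem_smul_iff_one_tmul (B := B)] at hx
    have h1 : dL (rs.map (algebraMap B (B ⧸ JB))) (-((n + 1 : ℕ) : ℤ)) (-(n : ℤ))
        (θ _ ((1 : B ⧸ JB) ⊗ₜ[B] x)) = 0 := by
      rw [← hθ _ _ (by omega), LinearMap.baseChange_tmul]
      exact (θ _).map_eq_zero_iff.2 hx
    obtain ⟨w, hw⟩ := (hEx (-((n + 1 + 1 : ℕ) : ℤ)) _ _ (by omega) (by omega) (by omega) _).1 h1
    obtain ⟨w, rfl⟩ := (θ _).surjective w
    obtain ⟨w, rfl⟩ := one_tmul_surjective (A := B) JB w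
    rw [← hθ _ _ (by omega), TensorProduct.mk_apply, LinearMap.baseChange_tmul] at hw
    refine ⟨w, ?_⟩
    rw [mem_smul_iff_one_tmul (B := B), tmul_sub, sub_eq_zero]
    exact ((θ _).injective hw).symm
  let L := Ideal.ofList rs
  let q : X rs (-((0 : ℕ) : ℤ)) →ₗ[A] B ⧸ L :=
    ((Ideal.Quotient.mkₐ A L).toLinearMap ∘ₗ (e0 rs).toLinearMap.restrictScalars A)
  have hq : Function.Surjective q := fun y => by
    obtain ⟨y, rfl⟩ := Ideal.Quotient.mk_surjective y
    exact ⟨(e0 rs).symm y, by show Ideal.Quotient.mk L (e0 rs ((e0 rs).symm y)) = _; rw [LinearEquiv.apply_symm_apply]⟩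
  have hqk : LinearMap.ker q = LinearMap.range (d 0) := by
    ext x
    show Ideal.Quotient.mk L (e0 rs x) = 0 ↔ _
    rw [Ideal.Quotient.eq_zero_iff_mem, range_d_zero rs]
    exact exists_congr fun w => ⟨fun h => (e0 rs).injective h, fun h => congrArg (e0 rs) h⟩
  let eH : (X rs (-((0 : ℕ) : ℤ)) ⧸ LinearMap.range (d 0)) ≃ₗ[A] B ⧸ L :=
    (Submodule.quotEquivOfEq _ _ hqk.symm).trans (q.quotKerEquivOfSurjective hq)
  let Lb := Ideal.ofList (rs.map (Ideal.Quotient.mk JB))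
  have hLb : L.map (Ideal.Quotient.mk JB) = Lb := Ideal.map_ofList _ _
  let hB : B →ₐ[A] (B ⧸ JB) ⧸ Lb := (Ideal.Quotient.mkₐ A Lb).comp (Ideal.Quotient.mkₐ A JB)
  let h : B ⧸ L →ₐ[A] (B ⧸ JB) ⧸ Lb :=
    Ideal.Quotient.liftₐ L hB fun x hx =>
      Ideal.Quotient.eq_zero_iff_mem.2 (hLb ▸ Ideal.mem_map_of_mem _ hx)
  have hsurj : Function.Surjective h := fun y => by
    obtain ⟨y, rfl⟩ := Ideal.Quotient.mk_surjective y
    obtain ⟨y, rfl⟩ := Ideal.Quotient.mk_surjective y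
    exact ⟨Ideal.Quotient.mk L y, rfl⟩
  have hker : LinearMap.ker h.toLinearMap = (J • ⊤ : Submodule A (B ⧸ L)) := by
    refine le_antisymm (fun x hx => ?_) ?_
    · obtain ⟨x, rfl⟩ := Ideal.Quotient.mk_surjective x
      have h1 : Ideal.Quotient.mk JB x ∈ Lb := Ideal.Quotient.eq_zero_iff_mem.1 hx
      rw [← hLb, ← Ideal.mem_comap, Ideal.comap_map_of_surjective _ Ideal.Quotient.mk_surjective,
        ← RingHom.ker_eq_comap_bot, Ideal.mk_ker, Submodule.mem_sup] at h1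
      obtain ⟨l, hl, j, hj, rfl⟩ := h1
      rw [map_add, Ideal.Quotient.eq_zero_iff_mem.2 hl, zero_add, Ideal.smul_top_eq_map,
        Submodule.restrictScalars_mem, IsScalarTower.algebraMap_eq A B (B ⧸ L), ← Ideal.map_map,
        Ideal.Quotient.algebraMap_eq]
      exact Ideal.mem_map_of_mem _ hj
    · refine Submodule.smul_le.2 fun a ha x _ => ?_
      rw [LinearMap.mem_ker, map_smul]
      obtain ⟨y, hy⟩ := Ideal.Quotient.mk_surjective (h x)
      show a • h x = 0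
      rw [← hy, ← Ideal.Quotient.mkₐ_eq_mk A, ← map_smul, Ideal.Quotient.mkₐ_eq_mk,
        show a • y = 0 by
          obtain ⟨y, rfl⟩ := Ideal.Quotient.mk_surjective y
          rw [Algebra.smul_def, IsScalarTower.algebraMap_apply A B (B ⧸ JB), Ideal.Quotient.algebraMap_eq,
            Ideal.Quotient.eq_zero_iff_mem.2 (Ideal.mem_map_of_mem (algebraMap A B) ha), zero_mul], map_zero]
  let e1 : (A ⧸ J) ⊗[A] (B ⧸ L) ≃ₗ[A] (B ⧸ JB) ⧸ Lb :=
    (quotTensorEquivQuotSMul (B ⧸ L) J).trans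
      ((Submodule.quotEquivOfEq _ _ hker.symm).trans (h.toLinearMap.quotKerEquivOfSurjective hsurj))
  have hflat0 : Module.Flat (A ⧸ J) ((A ⧸ J) ⊗[A] (X rs (-((0 : ℕ) : ℤ)) ⧸ LinearMap.range (d 0))) :=
    Module.Flat.of_linearEquiv (LinearEquiv.extendScalarsOfSurjective (R := A) (S := A ⧸ J)
      Ideal.Quotient.mk_surjective ((eH.lTensor (A ⧸ J)).trans e1))
  refine ⟨(ex_iff rs).1 fun i j k hij hjk hj => ?_, ?_⟩
  · rcases lt_or_gt_of_ne hj with hj' | hj'
    · obtain ⟨n, rfl⟩ : ∃ n : ℕ, j = -((n + 1 : ℕ) : ℤ) := ⟨(-j - 1).toNat, by omega⟩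
      obtain rfl : i = -((n + 1 + 1 : ℕ) : ℤ) := by omega
      obtain rfl : k = -(n : ℤ) := by omega
      exact exact_of_mod J (fun n => X rs (-(n : ℤ))) d hd hex hflat0 hJ n
    · have := subsingleton_of_outside rs j (Or.inl hj')
      intro y
      exact ⟨fun _ => ⟨0, Subsingleton.elim _ _⟩, fun _ => by rw [Subsingleton.elim y 0, map_zero]⟩
  · have := flat_of_mod J (fun n => X rs (-(n : ℤ))) d hd hex hflat0 hJ
    exact Module.Flat.of_linearEquiv eH.symm

end Groth.Agent.KoszulLift
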