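import Groth.Agent.KoszulLift.Main
import Groth.Agent.FlatDescent.Critere
import Groth.Agent.RegSeq.Basic

/-!
# Koszul regular sequences lift along nilpotent ideals
-/

set_option autoImplicit false
universe u

namespace Groth.Agent.KoszulLift

variable {A B A0 B0 : Type u} [CommRing A] [CommRing B] [CommRing A0] [CommRing B0]
  [Algebra A B] [Algebra A0 B0]

theorem lift_square_zero [Module.Flat A B] (φ : A →+* A0) (π : B →+* B0) (hφ : Function.Surjective φ)
    (hπ : Function.Surjective π) (hcomm : ∀ a, π (algebraMap A B a) = algebraMap A0 B0 (φ a))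
    (hker : RingHom.ker π = (RingHom.ker φ).map (algebraMap A B)) (hsq : RingHom.ker φ * RingHom.ker φ = ⊥)
    (rs : List B) (hreg : LCI.IsKoszulRegularSeq B0 (rs.map π))
    (hflat : Module.Flat A0 (B0 ⧸ Ideal.ofList (rs.map π))) :
    LCI.IsKoszulRegularSeq B rs ∧ Module.Flat A (B ⧸ Ideal.ofList rs) := by
  let eA : A ⧸ RingHom.ker φ ≃+* A0 := RingHom.quotientKerEquivOfSurjective hφ
  let eB : B ⧸ (RingHom.ker φ).map (algebraMap A B) ≃+* B0 :=
    (Ideal.quotEquivOfEq hker.symm).trans (RingHom.quotientKerEquivOfSurjective hπ)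
  have heB : ∀ b, eB (Ideal.Quotient.mk _ b) = π b := fun b => rfl
  have hlist : (rs.map π).map eB.symm.toRingHom =
      rs.map (Ideal.Quotient.mk ((RingHom.ker φ).map (algebraMap A B))) := by
    rw [List.map_map]
    refine List.map_congr_left fun b _ => ?_
    show eB.symm (π b) = _
    rw [← heB, RingEquiv.symm_apply_apply]
  refine square_zero (RingHom.ker φ) hsq rs ?_ ?_
  · let : Algebra B0 (B ⧸ (RingHom.ker φ).map (algebraMap A B)) := eB.symm.toRingHom.toAlgebra
    have : Module.Flat B0 (B ⧸ (RingHom.ker φ).map (algebraMap A B)) :=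
      (RingHom.Flat.of_bijective eB.symm.bijective : eB.symm.toRingHom.Flat)
    rw [← hlist]
    exact RegSeq.isKoszulRegularSeq_of_flat hreg
  · have hL : Ideal.ofList (rs.map (Ideal.Quotient.mk ((RingHom.ker φ).map (algebraMap A B)))) =
        (Ideal.ofList (rs.map π)).map eB.symm.toRingHom := by rw [Ideal.map_ofList, hlist]
    let eX := Ideal.quotientEquiv (Ideal.ofList (rs.map π)) _ eB.symm hL
    have hf := (RingHom.Flat.of_bijective eA.bijective).comp
      (((RingHom.flat_algebraMap_iff.2 hflat)).comp (RingHom.Flat.of_bijective eX.bijective))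
    rw [← RingHom.flat_algebraMap_iff]
    convert hf using 1
    refine Ideal.Quotient.ringHom_ext (RingHom.ext fun a => ?_)
    show algebraMap (A ⧸ RingHom.ker φ) _ (Ideal.Quotient.mk _ a) = eX (algebraMap A0 _ (φ a))
    rw [IsScalarTower.algebraMap_apply A0 B0 (B0 ⧸ Ideal.ofList (rs.map π)), ← hcomm]
    show _ = Ideal.Quotient.mk _ (eB.symm (π (algebraMap A B a)))
    rw [← heB, RingEquiv.symm_apply_apply]
    rfl

theorem lift_nilpotent : ∀ (n : ℕ) (A B : Type u) [CommRing A] [CommRing B] [Algebra A B] [Module.Flat A B]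
    (φ : A →+* A0) (π : B →+* B0), Function.Surjective φ → Function.Surjective π →
    (∀ a, π (algebraMap A B a) = algebraMap A0 B0 (φ a)) →
    RingHom.ker π = (RingHom.ker φ).map (algebraMap A B) → RingHom.ker φ ^ n = ⊥ →
    ∀ rs : List B, LCI.IsKoszulRegularSeq B0 (rs.map π) →
    Module.Flat A0 (B0 ⧸ Ideal.ofList (rs.map π)) →
    LCI.IsKoszulRegularSeq B rs ∧ Module.Flat A (B ⧸ Ideal.ofList rs) := by
  intro n
  induction n with
  | zero =>
    intro A B _ _ _ _ φ π hφ hπ hcomm hker hn rs hreg hflat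
    refine lift_square_zero φ π hφ hπ hcomm hker (eq_bot_iff.2 ?_) rs hreg hflat
    rw [pow_zero, Ideal.one_eq_top] at hn
    exact le_top.trans hn.le
  | succ n ih =>
    intro A B _ _ _ _ φ π hφ hπ hcomm hker hn rs hreg hflat
    by_cases hn2 : n ≤ 1
    · refine lift_square_zero φ π hφ hπ hcomm hker (eq_bot_iff.2 ?_) rs hreg hflat
      rw [← hn, ← pow_two]
      exact Ideal.pow_le_pow_right (by omega)
    · set J := RingHom.ker φ ^ n
      have hJle : J ≤ RingHom.ker φ := Ideal.pow_le_self (by omega)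
      have hJB : J.map (algebraMap A B) ≤ RingHom.ker π := hker ▸ Ideal.map_mono hJle
      let φ1 : A ⧸ J →+* A0 := Ideal.Quotient.lift J φ hJle
      let π1 : B ⧸ J.map (algebraMap A B) →+* B0 := Ideal.Quotient.lift _ π hJB
      have hk1 : RingHom.ker φ1 = (RingHom.ker φ).map (Ideal.Quotient.mk J) := Ideal.ker_quotient_lift φ hJle
      have hk2 : RingHom.ker π1 = (RingHom.ker π).map (Ideal.Quotient.mk _) := Ideal.ker_quotient_lift π hJB
      have hflat1 : Module.Flat (A ⧸ J) (B ⧸ J.map (algebraMap A B)) := by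
        rw [← RingHom.flat_algebraMap_iff]
        exact Groth.FlatDescent.flat_of_surjective_of_ker (algebraMap A B) (RingHom.flat_algebraMap_iff.2 ‹_›)
          (Ideal.Quotient.mk J) Ideal.Quotient.mk_surjective (Ideal.Quotient.mk _) Ideal.Quotient.mk_surjective
          (by rw [Ideal.mk_ker, Ideal.mk_ker]) _ (RingHom.ext fun _ => rfl)
      have hpow : RingHom.ker φ1 ^ n = ⊥ := by
        rw [hk1, ← Ideal.map_pow, eq_bot_iff, ← Ideal.map_quotient_self J]
      obtain ⟨h1, h2⟩ := ih (A ⧸ J) (B ⧸ J.map (algebraMap A B)) φ1 π1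
        (Ideal.Quotient.lift_surjective_of_surjective _ _ hφ) (Ideal.Quotient.lift_surjective_of_surjective _ _ hπ)
        (fun a => by
          obtain ⟨a, rfl⟩ := Ideal.Quotient.mk_surjective a
          exact hcomm a)
        (by
          rw [hk1, hk2, hker, Ideal.map_map, Ideal.map_map]
          congr 1)
        hpow (rs.map (Ideal.Quotient.mk _))
        (by rw [List.map_map]; exact hreg) (by rw [List.map_map]; exact hflat)
      refine square_zero J ?_ rs h1 h2
      rw [eq_bot_iff, ← hn, ← pow_add]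
      exact Ideal.pow_le_pow_right (by omega)

end Groth.Agent.KoszulLift
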